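import Mathlib.GroupTheory.Coxeter.Basic
import Mathlib.GroupTheory.Index
import Mathlib.Tactic.Group
import Mathlib.Data.ZMod.Basic
import Mathlib.Data.Fintype.Basic
import Mathlib.Algebra.Group.TypeTags.Finite
import Mathlib.Data.ZMod.Defs
import Mathlib.SetTheory.Cardinal.Finite
import Mathlib.GroupTheory.Abelianization.Defs

/-!
Generators `x`, `b j` with the relations of the even subgroup of a simply laced Coxeter group give a
group with at most half as many elements as the Coxeter group.
-/

set_option autoImplicit false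

namespace CfsgLib.CoxRot

open Subgroup

universe u v

variable {B : Type} (M : CoxeterMatrix B) (o k l : B)

/-- The indices of the involutions. -/
def InJ (j : B) : Prop := j ≠ o ∧ j ≠ k

/-- A simply laced diagram with an end node `o`, whose neighbour `k` has one more neighbour `l`. -/
structure Shape : Prop where
  simply : ∀ i j, M i j = 1 ∧ i = j ∨ M i j = 2 ∧ i ≠ j ∨ M i j = 3 ∧ i ≠ j
  ok : M o k = 3
  kl : M k l = 3
  lJ : InJ o k l
  oJ : ∀ j, InJ o k j → M o j = 2
  kJ : ∀ j, InJ o k j → j ≠ l → M k j = 2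

variable {M o k l}

theorem Shape.ne (S : Shape M o k l) {i j : B} (h : M i j ≠ 1) : i ≠ j := by
  rintro rfl; exact h (M.diagonal i)

/-- The relations. -/
structure Exact {Δ : Type u} [Group Δ] (M : CoxeterMatrix B) (o k l : B) (x : Δ) (b : B → Δ) : Prop where
  cube : x * x * x = 1
  sq : ∀ j, InJ o k j → b j * b j = 1
  inverts : ∀ j, InJ o k j → j ≠ l → b j * x * b j = x⁻¹
  two : ∀ i j, InJ o k i → InJ o k j → M i j = 2 → b i * b j = b j * b i
  three : ∀ i j, InJ o k i → InJ o k j → M i j = 3 → b i * b j * b i = b j * b i * b j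
  kl : x⁻¹ * b l * x⁻¹ * b l * x⁻¹ * b l = 1

/-- Homomorphisms out of a simply laced Coxeter group. -/
theorem Shape.exists_lift (S : Shape M o k l) {G : Type v} [Group G] (f : B → G) (h1 : ∀ i, f i * f i = 1)
    (h2 : ∀ i j, M i j = 2 → f i * f j = f j * f i)
    (h3 : ∀ i j, M i j = 3 → f i * f j * f i = f j * f i * f j) :
    ∃ Φ : M.Group →* G, ∀ i, Φ (M.toCoxeterSystem.simple i) = f i := by
  have hf : M.IsLiftable f := fun i j => by
    rcases S.simply i j with ⟨e, rfl⟩ | ⟨e, -⟩ | ⟨e, -⟩
    · rw [e, pow_one, h1]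
    · rw [e, pow_two, Commute.mul_mul_mul_comm (h2 i j e).symm, h1, h1, one_mul]
    · rw [e, show (f i * f j) ^ 3 = f i * f j * f i * (f j * f i * f j) by
        simp only [pow_succ, pow_zero, one_mul, mul_assoc], ← h3 i j e,
        show f i * f j * f i * (f i * f j * f i) = f i * (f j * (f i * f i) * f j) * f i by
          simp only [mul_assoc], h1, mul_one, h1, mul_one, h1]
  exact ⟨M.toCoxeterSystem.lift ⟨f, hf⟩, fun i => M.toCoxeterSystem.lift_apply_simple hf i⟩

/-- The parity of the length. -/
theorem Shape.exists_parity (S : Shape M o k l) :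
    ∃ σ : M.Group →* Multiplicative (ZMod 2), ∀ i, σ (M.toCoxeterSystem.simple i) = Multiplicative.ofAdd 1 :=
  S.exists_lift (fun _ => Multiplicative.ofAdd (1 : ZMod 2)) (fun _ => by decide) (fun _ _ _ => rfl)
    (fun _ _ _ => rfl)

variable {Δ : Type u} [Group Δ]

theorem two_cases : ∀ y : Multiplicative (ZMod 2), y = 1 ∨ y = Multiplicative.ofAdd 1 := by decide

/-- The permutation attached to a pair of elements. -/
def flipPerm (f : Bool → Δ) : Equiv.Perm (Δ × Bool) where
  toFun p := (f p.2 * p.1, !p.2)
  invFun p := ((f (!p.2))⁻¹ * p.1, !p.2)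
  left_inv p := by simp
  right_inv p := by simp

theorem flipPerm_apply (f : Bool → Δ) (p : Δ × Bool) : flipPerm f p = (f p.2 * p.1, !p.2) := rfl

/-- **The bound.** -/
theorem Shape.card_mul_two_le (S : Shape M o k l) [Finite M.Group] {x : Δ} {b : B → Δ}
    (E : Exact M o k l x b) (hgen : Subgroup.closure (insert x (b '' {j | InJ o k j})) = ⊤) :
    Finite Δ ∧ Nat.card Δ * 2 ≤ Nat.card M.Group := by
  classical
  let g : B → Bool → Δ := fun i e => if i = o then 1 else if i = k then (if e then x else x⁻¹) else b i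
  have hko : k ≠ o := (S.ne (by rw [S.ok]; decide)).symm
  have go : ∀ e, g o e = 1 := fun e => if_pos rfl
  have gk : ∀ e, g k e = if e then x else x⁻¹ := fun e => by simp [g, hko]
  have gJ : ∀ j e, InJ o k j → g j e = b j := fun j e hj => by simp [g, hj.1, hj.2]
  have hc : ∀ j, j = o ∨ j = k ∨ InJ o k j := fun j => by
    by_cases h : j = o
    · exact Or.inl h
    · by_cases h' : j = k
      · exact Or.inr (Or.inl h')
      · exact Or.inr (Or.inr ⟨h, h'⟩)
  have hinv : x⁻¹ = x * x := inv_eq_of_mul_eq_one_left E.cube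
  have hx4 : x * x * (x * x) = x := by rw [← mul_assoc, E.cube, one_mul]
  have hkl1 : x⁻¹ * b l * x⁻¹ = b l * x * b l := by
    have h := E.kl
    have hb := inv_eq_of_mul_eq_one_right (E.sq l S.lJ)
    calc x⁻¹ * b l * x⁻¹ = (x⁻¹ * b l * x⁻¹ * b l * x⁻¹ * b l) * ((b l)⁻¹ * x * (b l)⁻¹) := by group
      _ = _ := by rw [h, hb, one_mul]
  have hkl2 : x * b l * x = b l * x⁻¹ * b l := by
    have := congrArg (fun t => t⁻¹) hkl1
    simpa only [mul_inv_rev, inv_inv, inv_eq_of_mul_eq_one_right (E.sq l S.lJ), mul_assoc] using this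
  have hinv2 : ∀ j, InJ o k j → j ≠ l → b j * x = x⁻¹ * b j ∧ b j * x⁻¹ = x * b j := fun j hj hjl => by
    have h := E.inverts j hj hjl
    have hb := inv_eq_of_mul_eq_one_right (E.sq j hj)
    constructor
    · rw [← h, mul_assoc, mul_assoc, E.sq j hj, mul_one]
    · have h' := congrArg (fun t => t⁻¹) h
      simp only [mul_inv_rev, inv_inv, hb] at h'
      calc b j * x⁻¹ = b j * (x⁻¹ * b j) * b j := by rw [mul_assoc, mul_assoc x⁻¹, E.sq j hj, mul_one]
        _ = x * b j := by rw [h']
  obtain ⟨Φ, hΦ⟩ := S.exists_lift (fun i => flipPerm (g i))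
    (fun i => by
      refine Equiv.ext fun ⟨a, e⟩ => ?_
      show flipPerm (g i) (flipPerm (g i) (a, e)) = (a, e)
      simp only [flipPerm_apply, Bool.not_not, ← mul_assoc]
      rcases hc i with rfl | rfl | hj
      · simp [go]
      · cases e <;> simp [gk]
      · rw [gJ i _ hj, gJ i _ hj, E.sq i hj, one_mul])
    (fun i j h => by
      refine Equiv.ext fun ⟨a, e⟩ => ?_
      show flipPerm (g i) (flipPerm (g j) (a, e)) = flipPerm (g j) (flipPerm (g i) (a, e))
      simp only [flipPerm_apply, ← mul_assoc]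
      refine Prod.ext (congrArg (· * a) ?_) rfl
      have hij : i ≠ j := S.ne (by rw [h]; decide)
      rcases hc i with rfl | rfl | hi <;> rcases hc j with rfl | rfl | hj
      · exact absurd rfl hij
      · rw [S.ok] at h; exact absurd h (by decide)
      · rw [go, go, gJ j _ hj, gJ j _ hj, one_mul, mul_one]
      · rw [M.symmetric, S.ok] at h; exact absurd h (by decide)
      · exact absurd rfl hij
      · have hjl : j ≠ l := fun e => by rw [e, S.kl] at h; exact absurd h (by decide)
        obtain ⟨h1, h2⟩ := hinv2 j hj hjl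
        rw [gJ j _ hj, gJ j _ hj]
        cases e <;> simp [gk, h1, h2]
      · rw [go, go, gJ i _ hi, gJ i _ hi, one_mul, mul_one]
      · have hil : i ≠ l := fun e => by rw [e, M.symmetric, S.kl] at h; exact absurd h (by decide)
        obtain ⟨h1, h2⟩ := hinv2 i hi hil
        rw [gJ i _ hi, gJ i _ hi]
        cases e <;> simp [gk, h1, h2]
      · rw [gJ i _ hi, gJ i _ hi, gJ j _ hj, gJ j _ hj, E.two i j hi hj h])
    (fun i j h => by
      refine Equiv.ext fun ⟨a, e⟩ => ?_
      show flipPerm (g i) (flipPerm (g j) (flipPerm (g i) (a, e))) =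
        flipPerm (g j) (flipPerm (g i) (flipPerm (g j) (a, e)))
      simp only [flipPerm_apply, ← mul_assoc, Bool.not_not]
      refine Prod.ext (congrArg (· * a) ?_) rfl
      have hij : i ≠ j := S.ne (by rw [h]; decide)
      rcases hc i with rfl | rfl | hi <;> rcases hc j with rfl | rfl | hj
      · exact absurd rfl hij
      · rw [go, go, gk, gk]; cases e <;> simp [hinv, hx4]
      · rw [S.oJ j hj] at h; exact absurd h (by decide)
      · rw [go, go, gk, gk]; cases e <;> simp [hinv, hx4]
      · exact absurd rfl hij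
      · obtain rfl : j = l := by
          by_contra hjl
          rw [S.kJ j hj hjl] at h; exact absurd h (by decide)
        rw [gJ j _ hj, gJ j _ hj]
        cases e <;> simp [gk, hkl1, hkl2]
      · rw [M.symmetric, S.oJ i hi] at h; exact absurd h (by decide)
      · obtain rfl : i = l := by
          by_contra hil
          rw [M.symmetric, S.kJ i hi hil] at h; exact absurd h (by decide)
        rw [gJ i _ hi, gJ i _ hi]
        cases e <;> simp [gk, hkl1, hkl2]
      · rw [gJ i _ hi, gJ i _ hi, gJ j _ hj, gJ j _ hj, E.three i j hi hj h])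
  obtain ⟨σ, hσ⟩ := S.exists_parity
  have heq : ∀ w : M.Group, ∀ a e, Φ w (a, e) =
      ((Φ w (1, e)).1 * a, if σ w = 1 then e else !e) := by
    intro w
    induction w using M.toCoxeterSystem.simple_induction_left with
    | one => intro a e; simp
    | mul_simple_left w i ih =>
      intro a e
      rw [map_mul, map_mul, hΦ, hσ, Equiv.Perm.mul_apply, Equiv.Perm.mul_apply, ih a e, ih 1 e, flipPerm_apply,
        flipPerm_apply]
      simp only [mul_one]
      refine Prod.ext (mul_assoc _ _ _).symm ?_
      rcases two_cases (σ w) with h | h <;> rw [h]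
      · rw [if_pos rfl, mul_one, if_neg (by decide)]
      · rw [if_neg (by decide), if_pos (by decide), Bool.not_not]
  let ψ : σ.ker →* Δ := MonoidHom.mk' (fun w => (Φ w.1 (1, false)).1) fun v w => by
    show (Φ (v.1 * w.1) (1, false)).1 = _
    rw [map_mul, Equiv.Perm.mul_apply, heq w.1 1 false, if_pos (show σ w.1 = 1 from w.2), mul_one,
      heq v.1 (Φ w.1 (1, false)).1 false]
  have hs : Function.Surjective ψ := by
    rw [← MonoidHom.range_eq_top, eq_top_iff, ← hgen, Subgroup.closure_le]
    have hm : ∀ i j, M.toCoxeterSystem.simple i * M.toCoxeterSystem.simple j ∈ σ.ker := fun i j => by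
      rw [MonoidHom.mem_ker, map_mul, hσ, hσ]; rfl
    have hv : ∀ i j, g i true * g j false ∈ ψ.range := fun i j =>
      ⟨⟨_, hm i j⟩, by
        show (Φ (_ * _) (1, false)).1 = _
        rw [map_mul, hΦ, hΦ, Equiv.Perm.mul_apply, flipPerm_apply, flipPerm_apply]; simp⟩
    rintro y (rfl | ⟨j, hj, rfl⟩)
    · have := hv o k
      rw [go, gk, one_mul, if_neg (by decide)] at this
      simpa only [inv_inv, SetLike.mem_coe] using inv_mem this
    · have := hv o j
      rwa [go, one_mul, gJ j _ hj] at this
  refine ⟨Finite.of_surjective ψ hs, ?_⟩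
  have h := σ.ker.card_mul_index
  have hσs : Function.Surjective σ := fun y => by
    rcases two_cases y with rfl | rfl
    · exact ⟨1, map_one σ⟩
    · exact ⟨_, hσ o⟩
  rw [Subgroup.index_ker, MonoidHom.range_eq_top.2 hσs, Subgroup.card_top,
    show Nat.card (Multiplicative (ZMod 2)) = 2 from Nat.card_zmod 2] at h
  rw [← h]
  exact Nat.mul_le_mul_right _ (Nat.card_le_card_of_surjective ψ hs)

end CfsgLib.CoxRot
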