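import Cfsg.Agent.CoxRot.Bound
import Cfsg.Agent.SpMult.Central
import Cfsg.Agent.SpSixMult.Upper
import Mathlib.GroupTheory.SpecificGroups.Cyclic

/-!
Normalised lifts of the rotation generators to a central extension.
-/

set_option autoImplicit false
set_option linter.style.haveILetI false

namespace CfsgLib.CoxRot

open Subgroup CfsgLib.SpMult
open scoped commutatorElement

universe u w

variable {B : Type} {M : CoxeterMatrix B} {o k l : B} {G : Type w} [Group G] {Γ : Type u} [Group Γ]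

/-- The conditions on the diagram outside `o` and `k`. -/
structure Conn (M : CoxeterMatrix B) (o k l : B) : Prop where
  braids : ∀ {α : Type u} (f : B → α),
    (∀ i j, InJ o k i → InJ o k j → M i j = 3 → f i = f j) → ∀ j, InJ o k j → f j = f l
  commutes : ∀ {α : Type u} (f : B → α),
    (∀ i j, InJ o k i → InJ o k j → i ≠ l → j ≠ l → M i j = 2 → f i = f j) →
      ∀ i j, InJ o k i → InJ o k j → i ≠ l → j ≠ l → f i = f j
  moves : ∀ P : B → B → Prop, (∀ j, InJ o k j → M l j = 2 → P l j) →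
    (∀ i j, InJ o k i → InJ o k j → M i j = 2 → P i j → P j i) →
    (∀ a a' d, InJ o k a → InJ o k a' → InJ o k d → M a a' = 3 → M a d = 2 → M a' d = 2 → P a d → P a' d) →
      ∀ i j, InJ o k i → InJ o k j → M i j = 2 → P i j

/-- The square identity behind the relation between the two kinds of commutators. -/
theorem triple_identity {x b : Γ} (hx : x * x * x = 1) :
    x⁻¹ * b * x⁻¹ * b * x⁻¹ * b = (x⁻¹ * b * x) * (x * b * x⁻¹) * b := by
  have h : x⁻¹ = x * x := inv_eq_of_mul_eq_one_left hx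
  simp only [h, mul_assoc]

theorem cube_mul {L y : Γ} (h : Commute y L) : L * y * (L * y) * (L * y) = L * L * L * (y * y * y) := by
  rw [h.mul_mul_mul_comm, (h.mul_left h).mul_mul_mul_comm]

theorem comm_mul_central {g g' z z' : Γ} (hz : z ∈ center Γ) (hz' : z' ∈ center Γ) :
    ⁅g * z, g' * z'⁆ = ⁅g, g'⁆ := by
  have h1 : ∀ {a : Γ}, a ∈ center Γ → ∀ y : Γ, ⁅a, y⁆ = 1 := fun ha y =>
    commutatorElement_eq_one_iff_mul_comm.2 (mem_center_iff.1 ha y).symm
  have h2 : ∀ {a : Γ}, a ∈ center Γ → ∀ g y : Γ, ⁅g * a, y⁆ = ⁅g, y⁆ := fun ha g y => by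
    rw [comm_mul_left _ _ _ (by rw [h1 ha]; exact one_mem _), h1 ha, mul_one]
  rw [h2 hz, ← commutatorElement_inv, h2 hz', commutatorElement_inv]

/-- **Normalised lifts.** -/
theorem exists_normal {π : Γ →* G} (hc : π.ker ≤ center Γ) (hπ : Function.Surjective π) (S : Shape M o k l)
    (H : Conn.{u} M o k l) {gx : G} {gb : B → G} (E : Exact M o k l gx gb) (hJ : ∃ j, InJ o k j ∧ j ≠ l)
    (b0 : B → Γ) (hb0 : ∀ j, InJ o k j → π (b0 j) = gb j)
    (hbr : ∀ i j, InJ o k i → InJ o k j → M i j = 3 → b0 i * b0 j * b0 i = b0 j * b0 i * b0 j) :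
    ∃ (c : Γ) (_ : c ∈ center Γ) (x : Γ) (b : B → Γ), π c = 1 ∧ c * c = 1 ∧ π x = gx ∧
      (∀ j, InJ o k j → π (b j) = gb j) ∧
      ∀ {Q : Type u} [Group Q] (q : Γ →* Q), q c = 1 → Exact M o k l (q x) (fun j => q (b j)) := by
  classical
  have hz : ∀ {z : Γ}, π z = 1 → ∀ g, g * z = z * g := fun h g => mem_center_iff.1 (hc h) g
  obtain ⟨x0, hx0⟩ := hπ gx
  have hb2 : ∀ j, InJ o k j → π (b0 j * b0 j) = 1 := fun j hj => by rw [map_mul, hb0 j hj, E.sq j hj]
  set t := b0 l * b0 l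
  have ht : π t = 1 := hb2 l S.lJ
  have hsq : ∀ j, InJ o k j → b0 j * b0 j = t := H.braids (fun j => b0 j * b0 j) fun i j hi hj h =>
    (CfsgLib.SpSixMult.sq_eq_of_braid (hbr i j hi hj h) (hc (hb2 i hi))).symm
  -- the rotation of order three
  obtain ⟨lam, hlamdef⟩ : ∃ lam : B → Γ, ∀ j, lam j = b0 j * x0 * (b0 j)⁻¹ * x0 :=
    ⟨fun j => b0 j * x0 * (b0 j)⁻¹ * x0, fun j => rfl⟩
  have hlam : ∀ j, InJ o k j → j ≠ l → π (lam j) = 1 := fun j hj hjl => by
    simp only [hlamdef, map_mul, map_inv, hb0 j hj, hx0]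
    rw [inv_eq_of_mul_eq_one_right (E.sq j hj), E.inverts j hj hjl, inv_mul_cancel]
  have conj1 : ∀ j, InJ o k j → j ≠ l → b0 j * x0 * (b0 j)⁻¹ = lam j * x0⁻¹ := fun j _ _ => by
    rw [hlamdef, mul_inv_cancel_right]
  have hcube : ∀ j, InJ o k j → j ≠ l → lam j * lam j * lam j = x0 * x0 * x0 * (x0 * x0 * x0) := fun j hj hjl => by
    have hμ : π (x0 * x0 * x0) = 1 := by simp only [map_mul, hx0, E.cube]
    have h' : b0 j * (x0 * x0 * x0) * (b0 j)⁻¹ = (lam j * x0⁻¹) * (lam j * x0⁻¹) * (lam j * x0⁻¹) := by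
      rw [← conj1 j hj hjl]; group
    rw [conj_central (hc hμ), cube_mul (hz (hlam j hj hjl) x0⁻¹)] at h'
    conv_rhs => arg 1; rw [h']
    rw [show x0⁻¹ * x0⁻¹ * x0⁻¹ = (x0 * x0 * x0)⁻¹ by simp only [mul_inv_rev, mul_assoc], inv_mul_cancel_right]
  have hlameq : ∀ i j, InJ o k i → InJ o k j → i ≠ l → j ≠ l → lam i = lam j := by
    refine H.commutes lam fun i j hi hj hil hjl h => ?_
    have hi' := hz (hlam i hi hil)
    have hj' := hz (hlam j hj hjl)
    have key : ∀ a c, InJ o k a → InJ o k c → a ≠ l → c ≠ l →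
        (b0 a * b0 c) * x0 * (b0 a * b0 c)⁻¹ = lam c * (lam a)⁻¹ * x0 := fun a c ha hc' hal hcl => by
      rw [show (b0 a * b0 c) * x0 * (b0 a * b0 c)⁻¹ = b0 a * (b0 c * x0 * (b0 c)⁻¹) * (b0 a)⁻¹ by group,
        conj1 c hc' hcl, show b0 a * (lam c * x0⁻¹) * (b0 a)⁻¹ = b0 a * lam c * (b0 a)⁻¹ * (b0 a * x0 * (b0 a)⁻¹)⁻¹ by
          group, conj1 a ha hal, conj_central (hc (hlam c hc' hcl)), mul_inv_rev, inv_inv,
        show x0 * (lam a)⁻¹ = (lam a)⁻¹ * x0 from hz (by rw [map_inv, hlam a ha hal, inv_one]) x0, mul_assoc]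
    have hij : π ((b0 i * b0 j)⁻¹ * (b0 j * b0 i)) = 1 := by
      simp only [map_mul, map_inv, hb0 i hi, hb0 j hj, E.two i j hi hj h, inv_mul_cancel]
    have e : b0 j * b0 i = b0 i * b0 j * ((b0 i * b0 j)⁻¹ * (b0 j * b0 i)) := (mul_inv_cancel_left _ _).symm
    have h1 := key j i hj hi hjl hil
    rw [e, show ∀ p q : Γ, p * q * x0 * (p * q)⁻¹ = p * (q * x0 * q⁻¹) * p⁻¹ from fun p q => by group,
      ← hz hij x0, mul_inv_cancel_right, key i j hi hj hil hjl] at h1
    have h2 : lam j * lam j = lam i * lam i := by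
      have h3 := mul_right_cancel h1
      calc lam j * lam j = lam j * (lam i)⁻¹ * (lam i * lam j) := by group
        _ = lam i * (lam j)⁻¹ * (lam j * lam i) := by rw [h3, hj' (lam i)]
        _ = _ := by group
    have h3 := (hcube i hi hil).trans (hcube j hj hjl).symm
    rw [h2] at h3
    exact mul_left_cancel h3
  obtain ⟨j0, hj0, hj0l⟩ := hJ
  set L := lam j0
  have hL : π L = 1 := hlam j0 hj0 hj0l
  set μ := x0 * x0 * x0 with hμdef
  have hμ : π μ = 1 := by simp only [μ, map_mul, hx0, E.cube]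
  set a := L * μ⁻¹
  have haπ : π a = 1 := by rw [map_mul, map_inv, hL, hμ, inv_one, mul_one]
  have ha := hz haπ
  have hL3 : L * L * L = μ * μ := hcube j0 hj0 hj0l
  set x := x0 * a
  have hx : π x = gx := by rw [map_mul, hx0, haπ, mul_one]
  have hcμ : ∀ g, g * μ = μ * g := hz hμ
  have hcL : ∀ g, g * L = L * g := hz hL
  have hμL : Commute μ L := hcL μ
  have hx3 : x * x * x = 1 := by
    have hμL' : Commute μ⁻¹ L := hμL.inv_left
    rw [show x * x * x = x0 * a * (x0 * a) * (x0 * a) from rfl, cube_mul (ha x0).symm, ← hμdef,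
      show a = L * μ⁻¹ from rfl, cube_mul hμL', hL3]
    group
  have hxinv : ∀ j, InJ o k j → j ≠ l → b0 j * x * (b0 j)⁻¹ = x⁻¹ := fun j hj hjl => by
    rw [show b0 j * x * (b0 j)⁻¹ = b0 j * x0 * (b0 j)⁻¹ * (b0 j * a * (b0 j)⁻¹) by simp only [x]; group,
      conj1 j hj hjl, hlameq j j0 hj hj0 hjl hj0l, conj_central (hc haπ)]
    calc L * x0⁻¹ * a = (L * a * a) * (a⁻¹ * x0⁻¹) := by
          rw [mul_assoc, ← ha x0⁻¹ |>.symm]
          simp only [mul_assoc]
          congr 1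
          rw [mul_inv_cancel_left]
      _ = x⁻¹ := by
          rw [show L * a * a = 1 by
            calc L * a * a = L * (L * μ⁻¹) * (L * μ⁻¹) := rfl
              _ = L * L * L * (μ⁻¹ * μ⁻¹) := by
                rw [← mul_assoc L L μ⁻¹, Commute.mul_mul_mul_comm (hμL.inv_left : Commute μ⁻¹ L)]
              _ = 1 := by rw [hL3]; group, one_mul, ← mul_inv_rev]
  -- the two kinds of commutators
  set β := b0 l
  set β' := x * β * x⁻¹
  set c := ⁅β, β'⁆
  have hβ : π β = gb l := hb0 l S.lJ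
  have hG : gx⁻¹ * gb l * gx * (gx * gb l * gx⁻¹) * gb l = 1 := by rw [← triple_identity E.cube, E.kl]
  have hGG : gx⁻¹ * gb l * gx = gb l * (gx * gb l * gx⁻¹) := by
    have h2 := E.sq l S.lJ
    have h3 : gx * gb l * gx⁻¹ * (gx * gb l * gx⁻¹) = 1 := by
      rw [show gx * gb l * gx⁻¹ * (gx * gb l * gx⁻¹) = gx * (gb l * gb l) * gx⁻¹ by group, h2, mul_one, mul_inv_cancel]
    calc gx⁻¹ * gb l * gx
        = gx⁻¹ * gb l * gx * (gx * gb l * gx⁻¹) * gb l * ((gb l)⁻¹ * (gx * gb l * gx⁻¹)⁻¹) := by group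
      _ = _ := by rw [hG, one_mul, inv_eq_of_mul_eq_one_right h2, inv_eq_of_mul_eq_one_right h3]
  have hGcomm : gb l * (gx * gb l * gx⁻¹) = (gx * gb l * gx⁻¹) * gb l := by
    have h2 := E.sq l S.lJ
    have h4 : (gx⁻¹ * gb l * gx)⁻¹ = gx⁻¹ * gb l * gx := by
      simp only [mul_inv_rev, inv_inv, inv_eq_of_mul_eq_one_right h2, mul_assoc]
    rw [hGG, mul_inv_rev, inv_eq_of_mul_eq_one_right h2] at h4
    rw [← h4]
    congr 1
    simp only [mul_inv_rev, inv_inv, inv_eq_of_mul_eq_one_right h2, mul_assoc]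
  have hcc : c ∈ center Γ := comm_mem_center hc (by simp only [β', map_mul, map_inv, hx, hβ]; exact hGcomm)
  have hc1 : π c = 1 := by
    simp only [c, map_commutatorElement, β', map_mul, map_inv, hx, hβ]
    exact commutatorElement_eq_one_iff_mul_comm.2 hGcomm
  have hcsq : c * c = 1 := by
    rw [← comm_mul_left β β β' hcc]
    exact commutatorElement_eq_one_iff_mul_comm.2 (hz ht β').symm
  have hcinv : c⁻¹ = c := inv_eq_of_mul_eq_one_right hcsq
  have hl : ∀ j, InJ o k j → M l j = 2 → ⁅β, b0 j⁆ = c := fun j hj h => by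
    have hjl : j ≠ l := (S.ne (by rw [h]; decide)).symm
    have hπbb : π (b0 j * β' * (b0 j * β')) = gb l := by
      simp only [β', map_mul, map_inv, hx, hβ, hb0 j hj]
      have h2 := E.sq j hj
      have hi := E.inverts j hj hjl
      have hbi := inv_eq_of_mul_eq_one_right h2
      have hi' : gb j * gx⁻¹ * gb j = gx := by
        have := congrArg (fun t => t⁻¹) hi
        simpa only [mul_inv_rev, inv_inv, hbi, mul_assoc] using this
      have hlj : gb j * gb l * gb j = gb l := by rw [← E.two l j S.lJ hj h, mul_assoc, h2, mul_one]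
      calc gb j * (gx * gb l * gx⁻¹) * (gb j * (gx * gb l * gx⁻¹))
          = (gb j * gx * gb j) * (gb j * gb l * gb j) * (gb j * gx⁻¹ * gb j) * (gx * gb l * gx⁻¹) := by
            simp only [mul_assoc]
            rw [← mul_assoc (gb j) (gb j) (gb l * _), h2, one_mul, ← mul_assoc (gb j) (gb j) (gx⁻¹ * _), h2, one_mul]
        _ = gx⁻¹ * gb l * gx * (gx * gb l * gx⁻¹) := by rw [hi, hlj, hi']
        _ = gb l := by
          have h3 : gx * gb l * gx⁻¹ * (gx * gb l * gx⁻¹) = 1 := by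
            rw [show gx * gb l * gx⁻¹ * (gx * gb l * gx⁻¹) = gx * (gb l * gb l) * gx⁻¹ by group, E.sq l S.lJ,
              mul_one, mul_inv_cancel]
          rw [hGG, mul_assoc, h3, mul_one]
    set g := b0 j * β'
    have hκ : π (β⁻¹ * (g * g)) = 1 := by rw [map_mul, map_inv, hπbb, hβ, inv_mul_cancel]
    have hcomm : β * g = g * β := by
      have e : g * g = β * (β⁻¹ * (g * g)) := (mul_inv_cancel_left _ _).symm
      set κ := β⁻¹ * (g * g)
      have hg : g * (g * g) = g * g * g := (mul_assoc _ _ _).symm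
      rw [e, show β * κ * g = β * g * κ by rw [mul_assoc, ← hz hκ g, ← mul_assoc], ← mul_assoc] at hg
      exact (mul_right_cancel hg).symm
    have h0 := commutatorElement_eq_one_iff_mul_comm.2 hcomm
    have hjc : ⁅β, b0 j⁆ ∈ center Γ := comm_mem_center hc (by rw [hβ, hb0 j hj, E.two l j S.lJ hj h])
    rw [show ⁅β, g⁆ = ⁅β, b0 j⁆ * (b0 j * c * (b0 j)⁻¹) by
      simp only [g, c, commutatorElement_def]; group, conj_central hcc] at h0
    rw [eq_inv_of_mul_eq_one_left h0, hcinv]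
  have hall : ∀ i j, InJ o k i → InJ o k j → M i j = 2 → ⁅b0 i, b0 j⁆ = c := by
    refine H.moves (fun i j => ⁅b0 i, b0 j⁆ = c) hl (fun i j _ _ _ h => ?_) fun p p' d hp hp' hd h3 h2 h2' h => ?_
    · rw [← commutatorElement_inv, h, hcinv]
    · refine ((CfsgLib.SpSixMult.comm_eq_of_braid hc (hbr p p' hp hp' h3) ?_ ?_).symm).trans h
      · rw [Commute, SemiconjBy, hb0 p hp, hb0 d hd, E.two p d hp hd h2]
      · rw [Commute, SemiconjBy, hb0 p' hp', hb0 d hd, E.two p' d hp' hd h2']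
  -- the last scalar
  set ν := x⁻¹ * β * x⁻¹ * β * x⁻¹ * β
  have hν : π ν = 1 := by simp only [ν, map_mul, map_inv, hx, hβ, E.kl]
  set r := t * ν⁻¹
  have hr : π r = 1 := by rw [map_mul, map_inv, ht, hν, inv_one, mul_one]
  refine ⟨c, hcc, x, fun j => b0 j * r, hc1, hcsq, hx,
    fun j hj => by rw [map_mul, hr, mul_one, hb0 j hj], fun {Q} _ q hqc => ?_⟩
  have hzq : ∀ {z : Γ}, π z = 1 → ∀ g, Commute (q g) (q z) := fun h g => by
    rw [Commute, SemiconjBy, ← map_mul, ← map_mul, hz h g]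
  have htν : q t * q t * q t = q ν * q ν := by
    have e : ν = (x⁻¹ * β * x) * β' * β := triple_identity hx3
    have hcβ : Commute (q β) (q β') := by
      have := congrArg q (show β * β' = c * (β' * β) by simp only [c, commutatorElement_def]; group)
      rw [map_mul q β β', map_mul q c, hqc, one_mul, map_mul q β' β] at this
      exact this
    have hβ2 : q β * q β = q t := by rw [← map_mul]
    have hβ'2 : q β' * q β' = q t := by
      rw [← map_mul, show β' * β' = x * t * x⁻¹ by simp only [β', t, β]; group, conj_central (hc ht)]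
    have hβ''2 : q (x⁻¹ * β * x) * q (x⁻¹ * β * x) = q t := by
      rw [← map_mul, show x⁻¹ * β * x * (x⁻¹ * β * x) = x⁻¹ * t * (x⁻¹)⁻¹ by simp only [t, β]; group,
        conj_central (hc ht)]
    have h1 : q (x⁻¹ * β * x) = q ν * ((q β)⁻¹ * (q β')⁻¹) := by
      rw [e, map_mul q (x⁻¹ * β * x * β') β, map_mul q (x⁻¹ * β * x) β']; group
    rw [h1, ((hzq hν β).inv_left.mul_left (hzq hν β').inv_left).mul_mul_mul_comm, hcβ.inv_inv.symm.mul_mul_mul_comm, ← mul_inv_rev, ← mul_inv_rev, hβ2,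
      hβ'2] at hβ''2
    have hcomm := hzq ht t
    calc q t * q t * q t = q ν * q ν * ((q t)⁻¹ * (q t)⁻¹) * (q t * q t) := by rw [hβ''2, mul_assoc]
      _ = _ := by group
  have htc := hzq ht ν
  have hrq : q r = q t * (q ν)⁻¹ := by rw [map_mul, map_inv]
  have hbq : ∀ j, q (b0 j * r) = q (b0 j) * q r := fun j => map_mul q _ _
  have hrc : ∀ g, Commute (q g) (q r) := hzq hr
  refine
    { cube := by rw [← map_mul, ← map_mul, hx3, map_one]
      sq := fun j hj => ?_
      inverts := fun j hj hjl => ?_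
      two := fun i j hi hj h => ?_
      three := fun i j hi hj h => ?_
      kl := ?_ }
  · rw [hbq, (hrc (b0 j)).symm.mul_mul_mul_comm, ← map_mul, hsq j hj, hrq,
      (htc.inv_left).mul_mul_mul_comm]
    calc q t * (q t * q t * ((q ν)⁻¹ * (q ν)⁻¹)) = q t * q t * q t * ((q ν)⁻¹ * (q ν)⁻¹) := by group
      _ = 1 := by rw [htν]; group
  · have hsj : q (b0 j) * q r * (q (b0 j) * q r) = 1 := by
      rw [(hrc (b0 j)).symm.mul_mul_mul_comm, ← map_mul, hsq j hj, hrq, (htc.inv_left).mul_mul_mul_comm]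
      calc q t * (q t * q t * ((q ν)⁻¹ * (q ν)⁻¹)) = q t * q t * q t * ((q ν)⁻¹ * (q ν)⁻¹) := by group
        _ = 1 := by rw [htν]; group
    show q (b0 j * r) * q x * q (b0 j * r) = (q x)⁻¹
    rw [hbq]
    calc q (b0 j) * q r * q x * (q (b0 j) * q r)
        = q (b0 j) * q x * (q (b0 j))⁻¹ * (q (b0 j) * q r * (q (b0 j) * q r)) := by
          rw [show q (b0 j) * q r * q x = q (b0 j) * q x * q r by rw [mul_assoc, ← (hrc x).eq, ← mul_assoc]]
          group
      _ = _ := by rw [hsj, mul_one, ← map_inv q, ← map_mul, ← map_mul, hxinv j hj hjl, map_inv]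
  · show q (b0 i * r) * q (b0 j * r) = q (b0 j * r) * q (b0 i * r)
    have : q (b0 i) * q (b0 j) = q (b0 j) * q (b0 i) := by
      refine commutatorElement_eq_one_iff_mul_comm.1 ?_
      rw [← map_commutatorElement, hall i j hi hj h, hqc]
    rw [hbq, hbq, (hrc (b0 j)).symm.mul_mul_mul_comm, (hrc (b0 i)).symm.mul_mul_mul_comm, this]
  · show q (b0 i * r) * q (b0 j * r) * q (b0 i * r) = q (b0 j * r) * q (b0 i * r) * q (b0 j * r)
    have := congrArg q (hbr i j hi hj h)
    simp only [map_mul] at this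
    rw [hbq, hbq, (hrc (b0 j)).symm.mul_mul_mul_comm, (hrc (b0 i)).symm.mul_mul_mul_comm,
      ((hrc (b0 i)).symm.mul_left (hrc (b0 i)).symm).mul_mul_mul_comm,
      ((hrc (b0 j)).symm.mul_left (hrc (b0 j)).symm).mul_mul_mul_comm, this]
  · show (q x)⁻¹ * q (β * r) * (q x)⁻¹ * q (β * r) * (q x)⁻¹ * q (β * r) = 1
    rw [show q (β * r) = q β * q r from hbq l, show (q x)⁻¹ * (q β * q r) = q (x⁻¹ * β) * q r by
      rw [map_mul q x⁻¹ β, map_inv, mul_assoc]]
    have hR : ∀ g, Commute (q g) (q r) := hrc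
    calc q (x⁻¹ * β) * q r * (q x)⁻¹ * (q β * q r) * (q x)⁻¹ * (q β * q r)
        = q (x⁻¹ * β) * q r * (q (x⁻¹ * β) * q r) * (q (x⁻¹ * β) * q r) := by
          rw [map_mul q x⁻¹ β, map_inv]; simp only [mul_assoc]
      _ = q (x⁻¹ * β) * q (x⁻¹ * β) * q (x⁻¹ * β) * (q r * q r * q r) := by
          rw [(hR _).symm.mul_mul_mul_comm, ((hR _).symm.mul_left (hR _).symm).mul_mul_mul_comm]
      _ = q ν * (q t * (q ν)⁻¹ * (q t * (q ν)⁻¹) * (q t * (q ν)⁻¹)) := by
          rw [← map_mul, ← map_mul, hrq]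
          simp only [ν, mul_assoc]
      _ = q ν * (q t * q t * q t * ((q ν)⁻¹ * (q ν)⁻¹ * (q ν)⁻¹)) := by
          rw [(htc.inv_left).mul_mul_mul_comm, ((htc.inv_left).mul_left htc.inv_left).mul_mul_mul_comm]
      _ = 1 := by rw [htν]; group

/-- The rotation generators generate when the kernel is in the derived group. -/
theorem closure_eq_top_of_stem {π : Γ →* G} (hc : π.ker ≤ center Γ) (hk : π.ker ≤ commutator Γ) {T : Set Γ}
    (hT : Subgroup.closure (π '' T) = ⊤) : Subgroup.closure T = ⊤ := by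
  set H := Subgroup.closure T
  have hsup : H ⊔ π.ker = ⊤ := by
    rw [← Subgroup.comap_map_eq, MonoidHom.map_closure, hT, Subgroup.comap_top]
  have hle : commutator Γ ≤ H := by
    rw [_root_.commutator_def, commutator_le]
    intro g _ g' _
    obtain ⟨h, hh, z, hz, rfl⟩ := Subgroup.mem_sup_of_normal_right.1 (show g ∈ H ⊔ π.ker by rw [hsup]; trivial)
    obtain ⟨h', hh', z', hz', rfl⟩ := Subgroup.mem_sup_of_normal_right.1 (show g' ∈ H ⊔ π.ker by rw [hsup]; trivial)
    rw [comm_mul_central (hc hz) (hc hz')]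
    exact mul_mem (mul_mem (mul_mem hh hh') (inv_mem hh)) (inv_mem hh')
  rw [eq_top_iff, ← hsup, sup_le_iff]
  exact ⟨le_rfl, hk.trans hle⟩

end CfsgLib.CoxRot
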