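import Cfsg.Agent.CoxRot.Lift

/-!
Products of two simple reflections, and the step from normalised lifts to a bound on central kernels.
-/

set_option autoImplicit false
set_option linter.style.haveILetI false

namespace CfsgLib.CoxRot

open Subgroup

universe u v w

variable {B : Type} {M : CoxeterMatrix B} {o k l : B}

/-- Products of two reflections satisfy the rotation relations. -/
theorem Shape.exact_of_refl (S : Shape M o k l) {H : Type v} [Group H] (f : B → H) (h1 : ∀ i, f i * f i = 1)
    (h2 : ∀ i j, M i j = 2 → f i * f j = f j * f i)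
    (h3 : ∀ i j, M i j = 3 → f i * f j * f i = f j * f i * f j) :
    Exact M o k l (f o * f k) (fun j => f o * f j) := by
  have hi : ∀ i, (f i)⁻¹ = f i := fun i => inv_eq_of_mul_eq_one_right (h1 i)
  have hc : ∀ j, InJ o k j → f j * f o = f o * f j := fun j hj => (h2 o j (S.oJ j hj)).symm
  have hoo : ∀ i j, InJ o k i → f o * f i * (f o * f j) = f i * f j := fun i j hi' => by
    rw [← hc i hi', mul_assoc, ← mul_assoc (f o) (f o), h1, one_mul]
  have hsix : ∀ i j, M i j = 3 → f i * f j * (f i * f j) * (f i * f j) = 1 := fun i j h => by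
    rw [show f i * f j * (f i * f j) * (f i * f j) = f i * f j * f i * (f j * f i * f j) by simp only [mul_assoc],
      ← h3 i j h, show f i * f j * f i * (f i * f j * f i) = f i * (f j * (f i * f i) * f j) * f i by
        simp only [mul_assoc], h1, mul_one, h1, mul_one, h1]
  refine
    { cube := hsix o k S.ok
      sq := fun j hj => ?_
      inverts := fun j hj hjl => ?_
      two := fun i j hi' hj h => ?_
      three := fun i j hi' hj h => ?_
      kl := ?_ }
  · rw [hoo j j hj, h1]
  · rw [mul_inv_rev, hi, hi, hoo j k hj,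
      show f j * f k * (f o * f j) = f k * f j * (f o * f j) by rw [h2 k j (S.kJ j hj hjl)],
      show f k * f j * (f o * f j) = f k * (f j * f o * f j) by simp only [mul_assoc], hc j hj,
      mul_assoc (f o), h1, mul_one]
  · rw [hoo i j hi', hoo j i hj, h2 i j h]
  · have hmid : ∀ i j, InJ o k i → InJ o k j → f i * f j * (f o * f i) = f o * (f i * f j * f i) := fun i j hi' hj => by
      rw [← mul_assoc, ← ((show Commute (f o) (f i) from (hc i hi').symm).mul_right (hc j hj).symm).eq,
        mul_assoc (f o)]
    rw [hoo i j hi', hoo j i hj, hmid i j hi' hj, hmid j i hj hi', h3 i j h]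
  · have e : ∀ y, (f o * f k)⁻¹ * (f o * y) = f k * y := fun y => by
      rw [mul_inv_rev, hi, hi, mul_assoc, ← mul_assoc (f o) (f o), h1, one_mul]
    calc (f o * f k)⁻¹ * (f o * f l) * (f o * f k)⁻¹ * (f o * f l) * (f o * f k)⁻¹ * (f o * f l)
        = ((f o * f k)⁻¹ * (f o * f l)) * ((f o * f k)⁻¹ * (f o * f l)) * ((f o * f k)⁻¹ * (f o * f l)) := by
          simp only [mul_assoc]
      _ = 1 := by rw [e, hsix k l S.kl]

/-- The relations are reflected by injective homomorphisms. -/
theorem Exact.of_injective {Δ : Type u} [Group Δ] {H : Type v} [Group H] {φ : Δ →* H}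
    (hφ : Function.Injective φ) {x : Δ} {b : B → Δ} (E : Exact M o k l (φ x) (fun j => φ (b j))) :
    Exact M o k l x b where
  cube := hφ (by simpa only [map_mul, map_one] using E.cube)
  sq j hj := hφ (by simpa only [map_mul, map_one] using E.sq j hj)
  inverts j hj hjl := hφ (by simpa only [map_mul, map_inv] using E.inverts j hj hjl)
  two i j hi hj h := hφ (by simpa only [map_mul] using E.two i j hi hj h)
  three i j hi hj h := hφ (by simpa only [map_mul] using E.three i j hi hj h)
  kl := hφ (by simpa only [map_mul, map_inv, map_one] using E.kl)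

/-- The rotations generate the kernel of a character that is nontrivial on all reflections. -/
theorem ker_le_closure_rot {H : Type v} [Group H] {C : Type w} [Group C] (f : B → H) (h1 : ∀ i, f i * f i = 1)
    (hgen : Subgroup.closure (Set.range f) = ⊤) (χ : H →* C) (hχo : χ (f o) ≠ 1)
    (hχ : ∀ i, χ (f i) = χ (f o)) :
    χ.ker ≤ Subgroup.closure (insert (f o * f k) ((fun j => f o * f j) '' {j | InJ o k j})) := by
  set R := Subgroup.closure (insert (f o * f k) ((fun j => f o * f j) '' {j | InJ o k j}))
  have hR : ∀ i, f o * f i ∈ R := fun i => by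
    by_cases hio : i = o
    · rw [hio, h1]; exact one_mem R
    · by_cases hik : i = k
      · rw [hik]; exact Subgroup.subset_closure (Or.inl rfl)
      · exact Subgroup.subset_closure (Or.inr ⟨i, ⟨hio, hik⟩, rfl⟩)
  have hR' : ∀ i, f i * f o ∈ R := fun i => by
    have := inv_mem (hR i)
    rwa [mul_inv_rev, inv_eq_of_mul_eq_one_right (h1 i), inv_eq_of_mul_eq_one_right (h1 o)] at this
  have hker : R ≤ χ.ker := by
    have h0 : χ (f o) * χ (f o) = 1 := by rw [← map_mul, h1, map_one]
    refine (Subgroup.closure_le _).2 ?_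
    rintro y (rfl | ⟨j, -, rfl⟩) <;> simp only [SetLike.mem_coe, MonoidHom.mem_ker, map_mul, hχ, h0]
  have hall : ∀ w, w ∈ R ∨ f o * w ∈ R := fun w => by
    have hw : w ∈ Subgroup.closure (Set.range f) := by rw [hgen]; trivial
    induction hw using Subgroup.closure_induction_left with
    | one => exact Or.inl (one_mem R)
    | mul_left y hy w _ ih =>
      obtain ⟨i, rfl⟩ := hy
      rcases ih with h | h
      · right; rw [← mul_assoc]; exact mul_mem (hR i) h
      · left
        have := mul_mem (hR' i) h
        rwa [mul_assoc, ← mul_assoc (f o) (f o), h1, one_mul] at this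
    | inv_mul_cancel y hy w _ ih =>
      obtain ⟨i, rfl⟩ := hy
      rw [inv_eq_of_mul_eq_one_right (h1 i)]
      rcases ih with h | h
      · right; rw [← mul_assoc]; exact mul_mem (hR i) h
      · left
        have := mul_mem (hR' i) h
        rwa [mul_assoc, ← mul_assoc (f o) (f o), h1, one_mul] at this
  intro w hw
  refine (hall w).resolve_right fun h => hχo ?_
  have h' := MonoidHom.mem_ker.1 (hker h)
  rwa [map_mul, MonoidHom.mem_ker.1 hw, mul_one] at h'

/-- **Kernel bound.** A stem extension of a group with rotation generators has kernel of order at most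
`2 * d`, where `d` is the index of the group in the even part of the Coxeter group. -/
theorem card_ker_mul_le {G : Type w} [Group G] [Finite G] {Γ : Type u} [Group Γ] [Finite Γ] {π : Γ →* G}
    (hc : π.ker ≤ center Γ) (hk : π.ker ≤ commutator Γ) (hπ : Function.Surjective π) (S : Shape M o k l)
    [Finite M.Group] (H : Conn.{u} M o k l) {gx : G} {gb : B → G} (E : Exact M o k l gx gb)
    (hgen : Subgroup.closure (insert gx (gb '' {j | InJ o k j})) = ⊤)
    (hJ : ∃ j, InJ o k j ∧ j ≠ l) (b0 : B → Γ) (hb0 : ∀ j, InJ o k j → π (b0 j) = gb j)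
    (hbr : ∀ i j, InJ o k i → InJ o k j → M i j = 3 → b0 i * b0 j * b0 i = b0 j * b0 i * b0 j) :
    Nat.card π.ker * (Nat.card G * 2) ≤ 2 * Nat.card M.Group := by
  classical
  obtain ⟨c, hcc, x, b, hc1, hcsq, hx, hb, hE⟩ := exists_normal hc hπ S H E hJ b0 hb0 hbr
  haveI : (zpowers c).Normal := ⟨fun y hy g => by
    obtain ⟨i, rfl⟩ := hy
    rw [show g * c ^ i * g⁻¹ = c ^ i from CfsgLib.SpMult.conj_central (zpow_mem hcc i) g]
    exact ⟨i, rfl⟩⟩
  have hq : (QuotientGroup.mk' (zpowers c)) c = 1 :=
    (QuotientGroup.eq_one_iff c).2 (mem_zpowers c)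
  have himg : π '' insert x (b '' {j | InJ o k j}) = insert gx (gb '' {j | InJ o k j}) := by
    rw [Set.image_insert_eq, hx, Set.image_image]
    exact congrArg _ (Set.image_congr fun j hj => hb j hj)
  have htop := closure_eq_top_of_stem hc hk (by rw [himg]; exact hgen)
  obtain ⟨-, hle⟩ := S.card_mul_two_le (hE (QuotientGroup.mk' (zpowers c)) hq) (by
    have h := congrArg (Subgroup.map (QuotientGroup.mk' (zpowers c))) htop
    rw [MonoidHom.map_closure, Subgroup.map_top_of_surjective _ (QuotientGroup.mk'_surjective _),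
      Set.image_insert_eq, Set.image_image] at h
    exact h)
  have hN : Nat.card (zpowers c) ≤ 2 := by
    rw [Nat.card_zpowers]
    exact Nat.le_of_dvd (by norm_num) (orderOf_dvd_of_pow_eq_one (by rw [pow_two, hcsq]))
  have e1 := π.ker.card_mul_index
  rw [Subgroup.index_ker, MonoidHom.range_eq_top.2 hπ, Subgroup.card_top] at e1
  have e2 := (zpowers c).card_mul_index
  rw [Subgroup.index_eq_card] at e2
  calc Nat.card π.ker * (Nat.card G * 2) = Nat.card (zpowers c) * (Nat.card (Γ ⧸ zpowers c) * 2) := by
        rw [← mul_assoc, e1, ← mul_assoc, e2]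
    _ ≤ 2 * Nat.card M.Group := Nat.mul_le_mul hN hle

/-- Lifts of a braided sequence. -/
theorem exists_braid_chain {G : Type w} [Group G] {Γ : Type u} [Group Γ] {π : Γ →* G} (hc : π.ker ≤ center Γ)
    (hπ : Function.Surjective π) (g : ℕ → G) (N : ℕ)
    (h : ∀ i, i < N → g i * g (i + 1) * g i = g (i + 1) * g i * g (i + 1)) :
    ∃ a : ℕ → Γ, (∀ i, i ≤ N → π (a i) = g i) ∧
      ∀ i, i < N → a i * a (i + 1) * a i = a (i + 1) * a i * a (i + 1) := by
  induction N with
  | zero =>
    obtain ⟨a, ha⟩ := hπ (g 0)
    exact ⟨fun _ => a, fun i hi => by rw [Nat.le_zero.1 hi]; exact ha, fun i hi => absurd hi (Nat.not_lt_zero i)⟩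
  | succ N ih =>
    obtain ⟨a, ha, hbr⟩ := ih fun i hi => h i (by omega)
    obtain ⟨y, hy, hy'⟩ := CfsgLib.SpSixMult.exists_braid_lift hc hπ (h N (by omega)) (ha N le_rfl)
    refine ⟨Function.update a (N + 1) y, fun i hi => ?_, fun i hi => ?_⟩
    · by_cases e : i = N + 1
      · rw [e, Function.update_self, hy]
      · rw [Function.update_of_ne e]; exact ha i (by omega)
    · rw [Function.update_of_ne (show i ≠ N + 1 by omega)]
      by_cases e : i = N
      · rw [e, Function.update_self]; exact hy'
      · rw [Function.update_of_ne (show i + 1 ≠ N + 1 by omega)]; exact hbr i (by omega)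

end CfsgLib.CoxRot
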